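import Groth.Agent.PicAff79.Spread
import Groth.Agent.GaChar.Units

/-! Invertible modules on affine space over a reduced scheme with trivial Picard group. -/

universe u

open CategoryTheory CategoryTheory.Limits AlgebraicGeometry TopologicalSpace Opposite

namespace Groth.Agent.PicAff79

open Groth.Agent.AModX Groth.Agent.InvX

variable {X : Scheme.{u}} (n : Type u)

local notation "π" => (𝔸(n; X) ↘ X)

/-- The zero section. -/
noncomputable abbrev zeroSec : X ⟶ 𝔸(n; X) := AffineSpace.homOfVector (𝟙 X) 0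

theorem le_pre (V : X.Opens) : V ≤ zeroSec n ⁻¹ᵁ π ⁻¹ᵁ V := fun x hx => by
  show π (zeroSec n x) ∈ V
  rw [← Scheme.Hom.comp_apply, AffineSpace.homOfVector_over]
  exact hx

theorem appLE_base (V : X.Opens) (c : Γ(X, V)) :
    (zeroSec n).appLE (π ⁻¹ᵁ V) V (le_pre n V) ((π).app V c) = c := by
  have h : ∀ {φ ψ : X ⟶ X} (e : φ = ψ) (h : V ≤ φ ⁻¹ᵁ V) (h' : V ≤ ψ ⁻¹ᵁ V),
      φ.appLE V V h = ψ.appLE V V h' := by rintro _ _ rfl _ _; rfl
  refine (ConcreteCategory.congr_hom (Scheme.Hom.comp_appLE (zeroSec n) π V V (le_pre n V)).symm c).trans ?_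
  refine (ConcreteCategory.congr_hom (h (AffineSpace.homOfVector_over _ _) _ le_rfl) c).trans ?_
  simp only [Scheme.Hom.appLE, Scheme.Hom.id_app]
  erw [Subsingleton.elim (homOfLE _).op (𝟙 (op V)), CategoryTheory.Functor.map_id]
  rfl

variable [IsReduced X]

/-- A unit over a base open which is one along the zero section is one. -/
theorem eq_one_of_isUnit (V : X.Opens) {t : Γ(𝔸(n; X), π ⁻¹ᵁ V)} (ht : IsUnit t)
    (h : (zeroSec n).appLE (π ⁻¹ᵁ V) V (le_pre n V) t = 1) : t = 1 := by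
  let j := AffineSpace.map n V.ι
  have hp := AffineSpace.isPullback_map (n := n) V.ι
  haveI : IsOpenImmersion j := MorphismProperty.of_isPullback hp.flip (inferInstanceAs (IsOpenImmersion V.ι))
  haveI : IsReduced V.toScheme := isReduced_of_isOpenImmersion V.ι
  have hr : j.opensRange = π ⁻¹ᵁ V := by
    apply Opens.ext
    ext y
    constructor
    · rintro ⟨z, rfl⟩
      show π (j z) ∈ V
      rw [← Scheme.Hom.comp_apply, AffineSpace.map_over]
      exact ((𝔸(n; V.toScheme) ↘ V.toScheme) z).2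
    · intro hy
      obtain ⟨z, hz, -⟩ := @Scheme.Pullback.exists_preimage_pullback _ _ _ π V.ι y ⟨π y, hy⟩ rfl
      refine ⟨hp.isoPullback.inv z, ?_⟩
      show (hp.isoPullback.inv ≫ j) z = y
      rw [hp.isoPullback_inv_fst]
      exact hz
  have hle : (⊤ : (𝔸(n; V.toScheme)).Opens) ≤ j ⁻¹ᵁ π ⁻¹ᵁ V := fun z _ => hr.le ⟨z, rfl⟩
  have hinj : Function.Injective (j.appLE (π ⁻¹ᵁ V) ⊤ hle) := by
    haveI : IsIso (j.app (π ⁻¹ᵁ V)) := j.isIso_app _ hr.ge
    haveI : IsIso (j.appLE (π ⁻¹ᵁ V) ⊤ hle) := by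
      unfold Scheme.Hom.appLE
      haveI : IsIso (homOfLE hle) := ⟨homOfLE le_top, Subsingleton.elim _ _, Subsingleton.elim _ _⟩
      infer_instance
    exact ((ConcreteCategory.isIso_iff_bijective _).1 inferInstance).1
  obtain ⟨v, -, hv⟩ := GaChar.exists_unit n V.toScheme _ (ht.map (j.appLE (π ⁻¹ᵁ V) ⊤ hle).hom)
  let sV := zeroSec (X := V.toScheme) n
  have hsec : sV ≫ j = V.ι ≫ zeroSec n := by
    refine AffineSpace.hom_ext ?_ fun i => ?_
    · rw [Category.assoc, Category.assoc, AffineSpace.homOfVector_over, AffineSpace.map_over, Category.comp_id,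
        ← Category.assoc, AffineSpace.homOfVector_over, Category.id_comp]
    · rw [GaChar.appTop_comp, GaChar.appTop_comp, AffineSpace.map_appTop_coord,
        AffineSpace.homOfVector_appTop_coord, AffineSpace.homOfVector_appTop_coord]
      exact (map_zero _).symm
  have hv1 : v = 1 := by
    have e1 : sV.appTop (j.appLE (π ⁻¹ᵁ V) ⊤ hle t) = v := by
      rw [← show _ = j.appLE (π ⁻¹ᵁ V) ⊤ hle t from hv, ← GaChar.appTop_comp, AffineSpace.homOfVector_over]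
      rfl
    have hle' : (⊤ : V.toScheme.Opens) ≤ (V.ι ≫ zeroSec n) ⁻¹ᵁ π ⁻¹ᵁ V := fun z _ => le_pre n V z.2
    have h2 : ∀ {φ ψ : V.toScheme ⟶ 𝔸(n; X)} (e : φ = ψ) (h : ⊤ ≤ φ ⁻¹ᵁ π ⁻¹ᵁ V) (h' : ⊤ ≤ ψ ⁻¹ᵁ π ⁻¹ᵁ V),
        φ.appLE (π ⁻¹ᵁ V) ⊤ h = ψ.appLE (π ⁻¹ᵁ V) ⊤ h' := by rintro _ _ rfl _ _; rfl
    have hle'' : (⊤ : V.toScheme.Opens) ≤ (sV ≫ j) ⁻¹ᵁ π ⁻¹ᵁ V := hsec ▸ hle'
    have hlV : (⊤ : V.toScheme.Opens) ≤ V.ι ⁻¹ᵁ V := fun z _ => z.2
    have e2 : (V.ι ≫ zeroSec n).appLE (π ⁻¹ᵁ V) ⊤ hle' t = 1 := by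
      refine (ConcreteCategory.congr_hom (Scheme.Hom.appLE_comp_appLE V.ι (zeroSec n) (π ⁻¹ᵁ V) V ⊤
        (le_pre n V) hlV).symm t).trans ?_
      rw [CommRingCat.comp_apply, h, map_one]
    have e3 : (sV ≫ j).appLE (π ⁻¹ᵁ V) ⊤ hle'' t = sV.appTop (j.appLE (π ⁻¹ᵁ V) ⊤ hle t) := by
      refine (ConcreteCategory.congr_hom (Scheme.Hom.appLE_comp_appLE sV j (π ⁻¹ᵁ V) ⊤ ⊤
        hle le_top).symm t).trans ?_
      rw [CommRingCat.comp_apply]
      exact ConcreteCategory.congr_hom (Scheme.Hom.app_eq_appLE sV (U := ⊤)).symm _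
    rw [← e1, ← e3, h2 hsec _ hle']
    exact e2
  refine hinj ?_
  rw [map_one, ← show _ = j.appLE (π ⁻¹ᵁ V) ⊤ hle t from hv, hv1, map_one]

/-- Triviality. -/
theorem nonempty_iso
    (hX : ∀ L : X.Modules, PicF.IsInvertible L → Nonempty (L ≅ Coh.structureModule X))
    (hloc : ∀ x : X, ∀ L : (𝔸(n; Spec (X.presheaf.stalk x))).Modules, PicF.IsInvertible L →
      Nonempty (L ≅ Coh.structureModule 𝔸(n; Spec (X.presheaf.stalk x))))
    (L : (𝔸(n; X)).Modules) (hL : PicF.IsInvertible L) :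
    Nonempty (L ≅ Coh.structureModule 𝔸(n; X)) := by
  have hpull : ∀ {Y Z : Scheme.{u}} (f : Y ⟶ Z) (M : Z.Modules), PicF.IsInvertible M →
      PicF.IsInvertible ((Scheme.Modules.pullback f).obj M) := fun f M hM y => by
    obtain ⟨U, hyU, e, he⟩ := exists_frame hM (f y)
    exact ⟨f ⁻¹ᵁ U, hyU, InvUfdLib.nonempty_iso_restrict_of_frame (isFrame_pullElt f he)⟩
  let P := (Scheme.Modules.pullback (zeroSec (X := X) n)).obj L
  obtain ⟨φ⟩ := hX P (hpull _ L hL)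
  obtain ⟨e₀, he₀⟩ := exists_frame_top φ
  let Nrm : ∀ (V : X.Opens), Γ(L, π ⁻¹ᵁ V) → Prop := fun V e =>
    QCoh.pullSec (zeroSec n) L (le_pre n V) e = res P (le_top : V ≤ ⊤) e₀
  have hnorm : ∀ x : X, ∃ (V : X.Opens) (_ : x ∈ V) (e : Γ(L, π ⁻¹ᵁ V)), IsFrame e ∧ Nrm V e := by
    intro x
    obtain ⟨_, ⟨V₀, hV₀, rfl⟩, hxV₀, -⟩ :=
      X.isBasis_affineOpens.exists_subset_of_mem_open (Set.mem_univ x) isOpen_univ
    obtain ⟨ψ⟩ := hloc x _ (hpull (AffineSpace.map n (X.fromSpecStalk x)) L hL)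
    obtain ⟨V, hxV, e, he⟩ := exists_frame_near n x hV₀ hxV₀ hL ψ
    have hfe : IsFrame (QCoh.pullSec (zeroSec n) L (le_pre n V) e) := (isFrame_pullElt (zeroSec n) he).res _
    obtain ⟨c, hc⟩ := hfe.exists_coord le_rfl (res P (le_top : V ≤ ⊤) e₀)
    rw [res_self] at hc
    have hcu : IsUnit c := isUnit_of_frames hfe (hc ▸ he₀.res le_top)
    refine ⟨V, hxV, (π).app V c • e, he.isUnit_smul (hcu.map _), ?_⟩
    show QCoh.pullSec (zeroSec n) L (le_pre n V) ((π).app V c • e) = _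
    rw [QCoh.pullSec_smul, appLE_base, hc]
  choose V hxV e he hen using hnorm
  have hres : ∀ {W V' : X.Opens} (h : W ≤ V') (a : Γ(L, π ⁻¹ᵁ V')),
      QCoh.pullSec (zeroSec n) L (le_pre n W) (res L (Scheme.Hom.preimage_mono (f := π) h) a) =
        res P h (QCoh.pullSec (zeroSec n) L (le_pre n V') a) := by
    intro W V' h a
    show res P _ (((Scheme.Modules.pullbackPushforwardAdjunction (zeroSec n)).unit.app L).app _ _) =
      res P h (res P _ (((Scheme.Modules.pullbackPushforwardAdjunction (zeroSec n)).unit.app L).app _ _))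
    refine (congrArg (res P (le_pre n W)) (app_res ((Scheme.Modules.pullbackPushforwardAdjunction (zeroSec n)).unit.app L)
      (Scheme.Hom.preimage_mono (f := π) h) a)).trans ?_
    exact (res_res (M := P) _ _ _).trans (res_res (M := P) _ _ _).symm
  have hglue : ∀ x y, res L (inf_le_left : π ⁻¹ᵁ V x ⊓ π ⁻¹ᵁ V y ≤ π ⁻¹ᵁ V x) (e x) =
      res L (inf_le_right : π ⁻¹ᵁ V x ⊓ π ⁻¹ᵁ V y ≤ π ⁻¹ᵁ V y) (e y) := by
    intro x y
    let W := V x ⊓ V y
    have hWx : π ⁻¹ᵁ W ≤ π ⁻¹ᵁ V x := Scheme.Hom.preimage_mono (f := π) inf_le_left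
    have hWy : π ⁻¹ᵁ W ≤ π ⁻¹ᵁ V y := Scheme.Hom.preimage_mono (f := π) inf_le_right
    show res L hWx (e x) = res L hWy (e y)
    obtain ⟨t, ht⟩ := (he y).exists_coord hWy (res L hWx (e x))
    have htu : IsUnit t := isUnit_of_frames ((he y).res hWy) (ht ▸ (he x).res hWx)
    have hP : IsFrame (QCoh.pullSec (zeroSec n) L (le_pre n W) (res L hWy (e y))) :=
      (isFrame_pullElt (zeroSec n) ((he y).res hWy)).res _
    have h1 : (zeroSec n).appLE (π ⁻¹ᵁ W) W (le_pre n W) t = 1 := by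
      refine hP.coord_unique le_rfl ?_
      rw [res_self, one_smul, ← QCoh.pullSec_smul, ← ht, hres (inf_le_left : W ≤ V x), hres (inf_le_right : W ≤ V y), hen, hen, res_res, res_res]
    rw [ht, eq_one_of_isUnit n W htu h1, one_smul]
  have hcov : ∀ p : 𝔸(n; X), ∃ x : X, p ∈ π ⁻¹ᵁ V x := fun p => ⟨π p, hxV _⟩
  obtain ⟨s, hs, -⟩ := existsUnique_glue (M := L) (V := ⊤) (fun x : X => π ⁻¹ᵁ V x) (fun _ => le_top)
    (fun p _ => hcov p) e hglue
  exact InvUfdLib.nonempty_iso_of_frame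
    (InvUfdLib.isFrame_of_cover (fun x : X => π ⁻¹ᵁ V x) (fun _ => le_top) (fun p _ => hcov p) s fun x => hs x ▸ he x)

end Groth.Agent.PicAff79
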