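import Groth.Agent.InvUfdLib.Semilocal
import Groth.Agent.InvX.Pullback
import Groth.Agent.QCoh.PullbackBC
import Mathlib.AlgebraicGeometry.AffineSpace
import Mathlib.AlgebraicGeometry.Properties
import Mathlib.RingTheory.Ideal.MinimalPrime.Localization

/-! An invertible module on affine space, trivial over a stalk of the base, is trivial near that point. -/

universe u

open CategoryTheory CategoryTheory.Limits AlgebraicGeometry TopologicalSpace Opposite

namespace Groth.Agent.PicAff79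

open Groth.Agent.AModX Groth.Agent.InvX

variable {X : Scheme.{u}}

/-- A frame over each member of a pair of comparable frames has unit ratio. -/
theorem isUnit_of_frames {L : X.Modules} {U : X.Opens} {e : Γ(L, U)} (he : IsFrame e) {r : Γ(X, U)}
    (hr : IsFrame (r • e)) : IsUnit r := by
  obtain ⟨d, hd⟩ := hr.exists_coord le_rfl e
  refine IsUnit.of_mul_eq_one d (he.coord_unique le_rfl ?_)
  rw [mul_comm, mul_smul, one_smul, res_self]
  rw [res_self] at hd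
  exact hd.symm

/-- Sections of the structure module transported by an isomorphism. -/
theorem exists_frame_top {L : X.Modules} (φ : L ≅ Coh.structureModule X) : ∃ e : Γ(L, ⊤), IsFrame e := by
  let one : Γ(Coh.structureModule X, (⊤ : X.Opens)) := (1 : Γ(X, ⊤))
  refine ⟨φ.inv.app ⊤ one, fun V hV => ?_⟩
  have hb : Function.Bijective (φ.inv.app V) :=
    (ConcreteCategory.isIso_iff_bijective _).1 (Scheme.Modules.Hom.isIso_iff_isIso_app.1 inferInstance V)
  have e : (fun r : Γ(X, V) => r • res L hV (φ.inv.app ⊤ one)) =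
      (φ.inv.app V) ∘ fun r : Γ(X, V) => r • res (Coh.structureModule X) hV one := by
    funext r
    show _ = φ.inv.app V (r • res _ hV one)
    rw [Scheme.Modules.Hom.app_smul, app_res]
  rw [e]
  exact hb.comp (InvUfdLib.isFrame_one V hV)

variable (n : Type u) (x : X) {V₀ : X.Opens} (hV₀ : IsAffineOpen V₀) (hx : x ∈ V₀)

local notation "π" => (𝔸(n; X) ↘ X)
local notation "g" => AffineSpace.map n (X.fromSpecStalk x)

include hx in
theorem top_le : (⊤ : (𝔸(n; Spec (X.presheaf.stalk x))).Opens) ≤ g ⁻¹ᵁ π ⁻¹ᵁ V₀ := by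
  intro q _
  have h : π (g q) = X.fromSpecStalk x ((𝔸(n; Spec (X.presheaf.stalk x)) ↘ Spec (X.presheaf.stalk x)) q) := by
    rw [← Scheme.Hom.comp_apply, AffineSpace.map_over]
    rfl
  show π (g q) ∈ V₀
  rw [h]
  exact Specializes.mem_open ((Scheme.range_fromSpecStalk (x := x)).le ⟨_, rfl⟩) V₀.isOpen hx

/-- Restriction of functions to the space over the stalk. -/
noncomputable def G : Γ(𝔸(n; X), π ⁻¹ᵁ V₀) →+* Γ(𝔸(n; Spec (X.presheaf.stalk x)), ⊤) :=
  ((AffineSpace.map n (X.fromSpecStalk x)).appLE (π ⁻¹ᵁ V₀) ⊤ (top_le n x hx)).hom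

theorem G_base (c : Γ(X, V₀)) : G n x hx ((π).app V₀ c) =
    (𝔸(n; Spec (X.presheaf.stalk x)) ↘ Spec (X.presheaf.stalk x)).appTop
      ((Scheme.ΓSpecIso _).inv (X.presheaf.germ V₀ x hx c)) := by
  have h1 : (π).app V₀ ≫ (AffineSpace.map n (X.fromSpecStalk x)).appLE (π ⁻¹ᵁ V₀) ⊤ (top_le n x hx) =
      (g ≫ π).appLE V₀ ⊤ (top_le n x hx) := (Scheme.Hom.comp_appLE _ _ _ _ _).symm
  refine (ConcreteCategory.congr_hom h1 c).trans ?_
  have h2 : ∀ {φ ψ : 𝔸(n; Spec (X.presheaf.stalk x)) ⟶ X} (e : φ = ψ) (h : ⊤ ≤ φ ⁻¹ᵁ V₀) (h' : ⊤ ≤ ψ ⁻¹ᵁ V₀),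
      φ.appLE V₀ ⊤ h = ψ.appLE V₀ ⊤ h' := by rintro _ _ rfl _ _; rfl
  have htop : (⊤ : (Spec (X.presheaf.stalk x)).Opens) ≤ X.fromSpecStalk x ⁻¹ᵁ V₀ := fun q _ =>
    show X.fromSpecStalk x q ∈ V₀ from
      Specializes.mem_open ((Scheme.range_fromSpecStalk (x := x)).le ⟨q, rfl⟩) V₀.isOpen hx
  have htop' : (⊤ : (𝔸(n; Spec (X.presheaf.stalk x))).Opens) ≤
      ((𝔸(n; Spec (X.presheaf.stalk x)) ↘ Spec (X.presheaf.stalk x)) ≫ X.fromSpecStalk x) ⁻¹ᵁ V₀ := fun q _ => htop (x := (𝔸(n; Spec (X.presheaf.stalk x)) ↘ Spec (X.presheaf.stalk x)) q) trivial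
  refine (ConcreteCategory.congr_hom (h2 (AffineSpace.map_over (n := n) (X.fromSpecStalk x)) _ htop') c).trans ?_
  refine (ConcreteCategory.congr_hom (Scheme.Hom.comp_appLE _ _ _ _ _) c).trans ?_
  rw [Scheme.fromSpecStalk_app hx]
  simp only [Scheme.Hom.appLE, CommRingCat.comp_apply]
  simp only [← CommRingCat.comp_apply, Category.assoc]
  rw [Scheme.Hom.naturality_assoc, ← Functor.map_comp]
  have hid : ∀ (U : (𝔸(n; Spec (X.presheaf.stalk x))).Opens) (h : op U ⟶ op U),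
      (𝔸(n; Spec (X.presheaf.stalk x))).presheaf.map h = 𝟙 _ := fun U h => by
    rw [Subsingleton.elim h (𝟙 _), CategoryTheory.Functor.map_id]
  erw [hid]
  rfl

theorem isUnit_G {c : Γ(X, V₀)} (hc : IsUnit (X.presheaf.germ V₀ x hx c)) : IsUnit (G n x hx ((π).app V₀ c)) := by
  rw [G_base]
  exact (hc.map _).map _

include hV₀ in
/-- Functions over the stalk have a denominator from the base. -/
theorem exists_mul_eq (b' : Γ(𝔸(n; Spec (X.presheaf.stalk x)), ⊤)) :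
    ∃ (c : Γ(X, V₀)) (b : Γ(𝔸(n; X), π ⁻¹ᵁ V₀)), IsUnit (X.presheaf.germ V₀ x hx c) ∧
      G n x hx ((π).app V₀ c) * b' = G n x hx b := by
  let R := X.presheaf.stalk x
  let Φ := MvPolynomial.eval₂Hom ((Scheme.ΓSpecIso R).inv ≫ (𝔸(n; Spec R) ↘ Spec R).appTop).hom
    (AffineSpace.coord (Spec R))
  have hsurj : Function.Surjective Φ := fun z => by
    have h : Function.Surjective (AffineSpace.SpecIso n R).hom.appTop := fun z =>
      ⟨(AffineSpace.SpecIso n R).inv.appTop z, by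
        rw [← CommRingCat.comp_apply, ← Scheme.Hom.comp_appTop, Iso.hom_inv_id]; rfl⟩
    obtain ⟨y, hy⟩ := h z
    rw [AffineSpace.SpecIso_hom_appTop] at hy
    exact ⟨_, hy⟩
  obtain ⟨p, rfl⟩ := hsurj b'
  induction p using MvPolynomial.induction_on with
  | C a =>
    letI := TopCat.Presheaf.algebra_section_stalk X.presheaf (U := V₀) ⟨x, hx⟩
    haveI := hV₀.isLocalization_stalk ⟨x, hx⟩
    obtain ⟨⟨r, c⟩, hc⟩ := IsLocalization.surj (hV₀.primeIdealOf ⟨x, hx⟩).asIdeal.primeCompl a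
    have hcu : IsUnit (X.presheaf.germ V₀ x hx c.1) := IsLocalization.map_units R c
    refine ⟨c.1, (π).app V₀ r, hcu, ?_⟩
    rw [G_base, G_base, MvPolynomial.eval₂Hom_C]
    show _ * ((𝔸(n; Spec R) ↘ Spec R).appTop ((Scheme.ΓSpecIso R).inv a)) = _
    rw [← map_mul, ← map_mul, mul_comm]
    exact congrArg _ (congrArg _ hc)
  | add p q hp hq =>
    obtain ⟨c, b, hc, e⟩ := hp
    obtain ⟨c', b', hc', e'⟩ := hq
    refine ⟨c * c', (π).app V₀ c' * b + (π).app V₀ c * b', by rw [map_mul]; exact hc.mul hc', ?_⟩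
    simp only [map_mul, map_add, ← e, ← e']
    ring
  | mul_X p i hp =>
    obtain ⟨c, b, hc, e⟩ := hp
    refine ⟨c, b * resR le_top (AffineSpace.coord X i), hc, ?_⟩
    rw [map_mul, MvPolynomial.eval₂Hom_X', ← mul_assoc, e, map_mul]
    congr 1
    have h := Scheme.Hom.map_appLE (AffineSpace.map n (X.fromSpecStalk x))
      (U := π ⁻¹ᵁ V₀) (U' := ⊤) (V := ⊤) (top_le n x hx) (homOfLE le_top).op
    refine Eq.trans ?_ (ConcreteCategory.congr_hom h (AffineSpace.coord X i)).symm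
    refine ((ConcreteCategory.congr_hom (Scheme.Hom.app_eq_appLE (AffineSpace.map n (X.fromSpecStalk x)) (U := ⊤)) _).symm.trans ?_).symm
    exact AffineSpace.map_appTop_coord _ i

include hV₀ hx in
/-- Spreading out. -/
theorem exists_frame_near {L : (𝔸(n; X)).Modules} (hL : PicF.IsInvertible L)
    (φ : (Scheme.Modules.pullback g).obj L ≅ Coh.structureModule (𝔸(n; Spec (X.presheaf.stalk x)))) :
    ∃ (V : X.Opens) (_ : x ∈ V) (e : Γ(L, π ⁻¹ᵁ V)), IsFrame e := by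
  classical
  let A₀ := 𝔸(n; Spec (X.presheaf.stalk x))
  let N := (Scheme.Modules.pullback g).obj L
  have hV : IsAffineOpen (π ⁻¹ᵁ V₀) := hV₀.preimage π
  have hW : IsAffineOpen (⊤ : A₀.Opens) := isAffineOpen_top A₀
  have hle := top_le n x hx
  obtain ⟨e', he'⟩ := exists_frame_top φ
  letI : Algebra Γ(𝔸(n; X), π ⁻¹ᵁ V₀) Γ(A₀, ⊤) := (G n x hx).toAlgebra
  letI : Module Γ(𝔸(n; X), π ⁻¹ᵁ V₀) Γ(N, ⊤) := Module.compHom _ (G n x hx)
  haveI : IsScalarTower Γ(𝔸(n; X), π ⁻¹ᵁ V₀) Γ(A₀, ⊤) Γ(N, ⊤) :=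
    ⟨fun a b c => mul_smul (G n x hx a) b c⟩
  let l : Γ(L, π ⁻¹ᵁ V₀) →ₗ[Γ(𝔸(n; X), π ⁻¹ᵁ V₀)] Γ(N, ⊤) :=
    { toFun := fun m => QCoh.pullSec g L hle m
      map_add' := QCoh.pullSec_add g L hle
      map_smul' := fun r m => QCoh.pullSec_smul g L hle r m }
  have hbc : IsBaseChange Γ(A₀, ⊤) l := QCoh.isBaseChange_pullback hV g hW
    (QCoh.isQCoh_of_isFinLocFree (H23.PullPush.isFinLocFree_of_isInvertible hL)) hle (fun _ => rfl) l (fun _ => rfl)
  obtain ⟨c₁, m, hc₁, hm⟩ : ∃ (c : Γ(X, V₀)) (m : Γ(L, π ⁻¹ᵁ V₀)), IsUnit (X.presheaf.germ V₀ x hx c) ∧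
      G n x hx ((π).app V₀ c) • (show Γ(N, ⊤) from e') = l m := by
    refine hbc.inductionOn (e' : Γ(N, ⊤)) (fun z => ∃ (c : Γ(X, V₀)) (m : Γ(L, π ⁻¹ᵁ V₀)),
      IsUnit (X.presheaf.germ V₀ x hx c) ∧ G n x hx ((π).app V₀ c) • z = l m) ?_ (fun m => ?_) ?_ ?_
    · exact ⟨1, 0, by rw [map_one]; exact isUnit_one, by rw [smul_zero, map_zero]⟩
    · exact ⟨1, m, by rw [map_one]; exact isUnit_one, by rw [map_one, map_one, one_smul]⟩
    · rintro s z ⟨c, m, hc, e⟩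
      obtain ⟨c', b, hc', e''⟩ := exists_mul_eq n x hV₀ hx s
      refine ⟨c' * c, b • m, by rw [map_mul]; exact hc'.mul hc, ?_⟩
      rw [map_mul, map_mul, ← mul_smul, mul_right_comm, e'', mul_smul, e, map_smul]
      rfl
    · rintro z z' ⟨c, m, hc, e⟩ ⟨c', m', hc', e'⟩
      refine ⟨c * c', (π).app V₀ c' • m + (π).app V₀ c • m', by rw [map_mul]; exact hc.mul hc', ?_⟩
      rw [map_add, map_smul, map_smul, smul_add, ← e, ← e', map_mul, map_mul]
      refine congrArg₂ (· + ·) ?_ (mul_smul (G n x hx ((π).app V₀ c)) (G n x hx ((π).app V₀ c')) z')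
      rw [mul_comm]
      exact mul_smul (G n x hx ((π).app V₀ c')) (G n x hx ((π).app V₀ c)) z
  have hfm : IsFrame (QCoh.pullSec g L hle m) := by
    rw [show QCoh.pullSec g L hle m = G n x hx ((π).app V₀ c₁) • (show Γ(N, ⊤) from e') from hm.symm]
    exact he'.isUnit_smul (isUnit_G n x hx hc₁)
  -- the frame locus
  let κ := {U : (𝔸(n; X)).Opens // ∃ h : U ≤ π ⁻¹ᵁ V₀, IsFrame (res L h m)}
  let O : (𝔸(n; X)).Opens := ⨆ U : κ, U.1
  have hO : ∀ q : A₀, g q ∈ O := by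
    intro q
    obtain ⟨U, hyU, e, he⟩ := exists_frame hL (g q)
    let W := U ⊓ π ⁻¹ᵁ V₀
    have hWV : W ≤ π ⁻¹ᵁ V₀ := inf_le_right
    obtain ⟨r, hr⟩ := he.exists_coord (inf_le_left : W ≤ U) (res L hWV m)
    let e₁ := res L (inf_le_left : W ≤ U) e
    have hfe : IsFrame (pullElt g e₁) := isFrame_pullElt g (he.res inf_le_left)
    have hfr : IsFrame ((AffineSpace.map n (X.fromSpecStalk x)).app W r • pullElt g e₁) := by
      have h1 := hfm.res (le_top : g ⁻¹ᵁ W ≤ ⊤)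
      have h2 : res N (le_top : g ⁻¹ᵁ W ≤ ⊤) (QCoh.pullSec g L hle m) = pullElt g (res L hWV m) := by
        refine (res_res (M := N) hle le_top _).trans ?_
        exact (app_res ((Scheme.Modules.pullbackPushforwardAdjunction g).unit.app L) hWV m).symm
      rw [h2, hr] at h1
      rw [show pullElt g (r • e₁) = (AffineSpace.map n (X.fromSpecStalk x)).app W r • pullElt g e₁ from
        Scheme.Modules.Hom.app_smul _ _ _] at h1
      exact h1
    have hu : IsUnit ((AffineSpace.map n (X.fromSpecStalk x)).app W r) := isUnit_of_frames hfe hfr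
    have hq : g q ∈ (𝔸(n; X)).basicOpen r := by
      show q ∈ g ⁻¹ᵁ (𝔸(n; X)).basicOpen r
      rw [Scheme.preimage_basicOpen, A₀.basicOpen_of_isUnit hu]
      exact ⟨hyU, hle trivial⟩
    refine Opens.mem_iSup.2 ⟨⟨(𝔸(n; X)).basicOpen r, ((𝔸(n; X)).basicOpen_le r).trans hWV, ?_⟩, hq⟩
    have h3 := congrArg (res L ((𝔸(n; X)).basicOpen_le r)) hr
    rw [res_res, res_smul, res_res] at h3
    rw [h3]
    exact (he.res _).isUnit_smul (isUnit_resR _ _ le_rfl)
  -- the base neighbourhood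
  let Z : Set (PrimeSpectrum Γ(𝔸(n; X), π ⁻¹ᵁ V₀)) := hV.fromSpec ⁻¹' (↑O)ᶜ
  have hZ : IsClosed Z := O.isOpen.isClosed_compl.preimage hV.fromSpec.continuous
  let I := PrimeSpectrum.vanishingIdeal Z
  obtain ⟨c, hcI, hcx⟩ : ∃ c : Γ(X, V₀), (π).app V₀ c ∈ I ∧ c ∉ (hV₀.primeIdealOf ⟨x, hx⟩).asIdeal := by
    by_contra! hne
    obtain ⟨q, hq, hqp⟩ := Ideal.exists_minimalPrimes_le (I := I.comap ((π).app V₀).hom)
      (J := (hV₀.primeIdealOf ⟨x, hx⟩).asIdeal) hne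
    obtain ⟨Q, hQ, hIQ, hQq⟩ := Ideal.exists_comap_eq_of_mem_minimalPrimes ((π).app V₀).hom q hq
    have hQZ : (⟨Q, hQ⟩ : PrimeSpectrum _) ∈ Z := by
      rw [← hZ.closure_eq, ← PrimeSpectrum.zeroLocus_vanishingIdeal_eq_closure]
      exact hIQ
    let y := hV.fromSpec ⟨Q, hQ⟩
    have hsp : π y ⤳ x := by
      have h1 : π y = hV₀.fromSpec (PrimeSpectrum.comap ((π).app V₀).hom ⟨Q, hQ⟩) := by
        have h0 := IsAffineOpen.SpecMap_appLE_fromSpec π hV₀ hV le_rfl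
        rw [← Scheme.Hom.app_eq_appLE] at h0
        exact (congrArg (fun φ : Spec Γ(𝔸(n; X), π ⁻¹ᵁ V₀) ⟶ X => φ ⟨Q, hQ⟩) h0).symm
      rw [h1, ← show hV₀.fromSpec (hV₀.primeIdealOf ⟨x, hx⟩) = x from hV₀.fromSpec_primeIdealOf ⟨x, hx⟩]
      refine Specializes.map ((PrimeSpectrum.le_iff_specializes _ _).1 ?_) hV₀.fromSpec.continuous
      show Q.comap _ ≤ _
      rw [hQq]
      exact hqp
    obtain ⟨s, hs⟩ : π y ∈ Set.range (X.fromSpecStalk x) := by
      rw [Scheme.range_fromSpecStalk]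
      exact hsp
    have hp := AffineSpace.isPullback_map (n := n) (X.fromSpecStalk x)
    obtain ⟨z, hz1, -⟩ := @Scheme.Pullback.exists_preimage_pullback _ _ _ π (X.fromSpecStalk x) y s hs.symm
    refine hQZ ?_
    have : g (hp.isoPullback.inv z) = y := by
      rw [← Scheme.Hom.comp_apply, hp.isoPullback_inv_fst]
      exact hz1
    show hV.fromSpec ⟨Q, hQ⟩ ∈ O
    exact (congrArg (· ∈ O) this).mp (hO _)
  have hcle : π ⁻¹ᵁ X.basicOpen c ≤ O := by
    intro y hy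
    have hyV : y ∈ π ⁻¹ᵁ V₀ := X.basicOpen_le c hy
    by_contra hyO
    obtain ⟨P, rfl⟩ : y ∈ Set.range hV.fromSpec := hV.range_fromSpec.ge hyV
    have hP : (π).app V₀ c ∈ P.asIdeal := (PrimeSpectrum.mem_vanishingIdeal _ _).1 hcI P hyO
    rw [Scheme.preimage_basicOpen] at hy
    have : P ∈ hV.fromSpec ⁻¹ᵁ (𝔸(n; X)).basicOpen ((π).app V₀ c) := hy
    rw [hV.fromSpec_preimage_basicOpen] at this
    exact this hP
  refine ⟨X.basicOpen c, ?_, res L (Scheme.Hom.preimage_mono (f := π) (X.basicOpen_le c)) m, ?_⟩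
  · rw [X.mem_basicOpen c x hx]
    letI := TopCat.Presheaf.algebra_section_stalk X.presheaf (U := V₀) ⟨x, hx⟩
    haveI := hV₀.isLocalization_stalk ⟨x, hx⟩
    exact IsLocalization.map_units (X.presheaf.stalk x) (⟨c, hcx⟩ : (hV₀.primeIdealOf ⟨x, hx⟩).asIdeal.primeCompl)
  · refine InvUfdLib.isFrame_of_cover (fun U : κ => U.1 ⊓ π ⁻¹ᵁ X.basicOpen c) (fun _ => inf_le_right)
      (fun y hy => (Opens.mem_iSup.1 (hcle hy)).imp fun U hU => ⟨hU, hy⟩) _ fun U => ?_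
    obtain ⟨h, hU⟩ := U.2
    have := hU.res (inf_le_left : U.1 ⊓ π ⁻¹ᵁ X.basicOpen c ≤ U.1)
    rw [res_res] at this ⊢
    exact this

end Groth.Agent.PicAff79
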